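import Mathlib
import Cfsg.Agent.CoprimeAction.Action
import Cfsg.Agent.CoprimeAction.Frattini
import Cfsg.Agent.PGroup.Basic
import Cfsg.Prelude.Def_Transfer

/-!
Abelian groups of odd order acting on a `2`-group so that no nontrivial element fixes two involutions.
-/

set_option autoImplicit false
set_option linter.unusedSectionVars false
set_option linter.style.haveILetI false

namespace CfsgLib.FixedInvolution

open scoped commutatorElement

variable {W A : Type*} [Group W] [CommGroup A] [Finite W] [Finite A]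

/-- The hypotheses. -/
structure Hyp (p : ℕ) (φ : A →* MulAut W) : Prop where
  prime : p.Prime
  odd : p ≠ 2
  two : IsPGroup 2 W
  pgroup : IsPGroup p A
  noncyclic : ¬ IsCyclic A
  inj : Function.Injective φ
  fix : ∀ a : A, a ≠ 1 → ∀ x y : W, x ≠ 1 → x * x = 1 → y ≠ 1 → y * y = 1 → φ a x = x → φ a y = y → x = y

/-- The restriction to an invariant subgroup. -/
def res (φ : A →* MulAut W) (H : Subgroup W) (hH : ∀ a : A, ∀ x ∈ H, φ a x ∈ H) : A →* MulAut H where
  toFun a :=
    { toFun := fun x => ⟨φ a x, hH a x x.2⟩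
      invFun := fun x => ⟨φ a⁻¹ x, hH a⁻¹ x x.2⟩
      left_inv := fun x => Subtype.ext (by
        show φ a⁻¹ (φ a (x : W)) = (x : W)
        rw [← MulAut.mul_apply, ← map_mul, inv_mul_cancel, map_one, MulAut.one_apply])
      right_inv := fun x => Subtype.ext (by
        show φ a (φ a⁻¹ (x : W)) = (x : W)
        rw [← MulAut.mul_apply, ← map_mul, mul_inv_cancel, map_one, MulAut.one_apply])
      map_mul' := fun x y => Subtype.ext (map_mul (φ a) (x : W) (y : W)) }
  map_one' := MulEquiv.ext fun x => Subtype.ext (by show φ 1 (x : W) = x; rw [map_one, MulAut.one_apply])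
  map_mul' a b := MulEquiv.ext fun x => Subtype.ext (by
    show φ (a * b) (x : W) = φ a (φ b (x : W)); rw [map_mul, MulAut.mul_apply])

theorem coe_res (φ : A →* MulAut W) (H : Subgroup W) (hH : ∀ a : A, ∀ x ∈ H, φ a x ∈ H) (a : A) (x : H) :
    ((res φ H hH a x : H) : W) = φ a x := rfl

/-- The fixed points of one element. -/
def F (φ : A →* MulAut W) (a : A) : Subgroup W where
  carrier := {x | φ a x = x}
  one_mem' := map_one _
  mul_mem' := fun {x y} hx hy => by
    show φ a (x * y) = x * y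
    rw [map_mul, (show φ a x = x from hx), (show φ a y = y from hy)]
  inv_mem' := fun {x} hx => by
    show φ a x⁻¹ = x⁻¹
    rw [map_inv, (show φ a x = x from hx)]

variable {p : ℕ} {φ : A →* MulAut W}

theorem phi_comm (a b : A) (x : W) : φ a (φ b x) = φ b (φ a x) := by
  rw [← MulAut.mul_apply, ← MulAut.mul_apply, ← map_mul, ← map_mul, mul_comm]

theorem Hyp.odd_order (h : Hyp p φ) (a : A) : Odd (orderOf a) := by
  haveI := Fact.mk h.prime
  obtain ⟨k, hk⟩ := IsPGroup.iff_orderOf.1 h.pgroup a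
  rw [hk]
  exact (h.prime.odd_of_ne_two h.odd).pow

theorem Hyp.coprime (h : Hyp p φ) : (Nat.card A).Coprime (Nat.card W) := by
  haveI := Fact.mk h.prime
  haveI := Fact.mk Nat.prime_two
  obtain ⟨i, hi⟩ := h.pgroup.exists_card_eq
  obtain ⟨j, hj⟩ := h.two.exists_card_eq
  rw [hi, hj]
  exact Nat.Coprime.pow _ _ ((Nat.coprime_primes h.prime Nat.prime_two).2 h.odd)

theorem Hyp.exists_ne_one (h : Hyp p φ) : ∃ a : A, a ≠ 1 := by
  by_contra hc
  push Not at hc
  haveI : Subsingleton A := ⟨fun a b => by rw [hc a, hc b]⟩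
  exact h.noncyclic inferInstance

theorem Hyp.gen (h : Hyp p φ) {S : Subgroup W} (hS : ∀ a : A, a ≠ 1 → ∀ y, φ a y = y → y ∈ S) (x : W) : x ∈ S := by
  refine (Subgroup.closure_le S).2 ?_ (CfsgLib.CoprimeAction.mem_closure_fixed φ h.noncyclic h.coprime x)
  rintro y ⟨a, ha, hy⟩
  exact hS a ha y hy

/-- An element cannot be moved by an involution that it fixes. -/
theorem Hyp.twisted (h : Hyp p φ) {a : A} {x u : W} (hx : φ a x = x * u) (hu : φ a u = u) (hu2 : u * u = 1) :
    u = 1 := by
  have hk : ∀ k : ℕ, φ (a ^ k) x = x * u ^ k := by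
    intro k
    induction k with
    | zero => simp
    | succ k ih =>
      rw [pow_succ', map_mul, MulAut.mul_apply, ih, map_mul, map_pow (φ a) u k, hu, hx, mul_assoc, ← pow_succ']
  have h1 := hk (orderOf a)
  obtain ⟨l, hl⟩ := h.odd_order a
  rw [pow_orderOf_eq_one, map_one, MulAut.one_apply, left_eq_mul, hl, pow_succ, pow_mul, pow_two, hu2, one_pow,
    one_mul] at h1
  exact h1

theorem Hyp.fixed_of_sq (h : Hyp p φ) {a : A} {x : W} (hx : φ (a * a) x = x) : φ a x = x := by
  obtain ⟨l, hl⟩ := h.odd_order a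
  have hk : ∀ k : ℕ, φ ((a * a) ^ k) x = x := by
    intro k
    induction k with
    | zero => simp
    | succ k ih => rw [pow_succ, map_mul, MulAut.mul_apply, hx, ih]
  have e : (a * a) ^ (l + 1) = a := by
    rw [← pow_two, ← pow_mul, show 2 * (l + 1) = orderOf a + 1 by omega, pow_succ, pow_orderOf_eq_one, one_mul]
  rw [← e]
  exact hk _

/-- Subgroups of exponent two are centralized. -/
theorem Hyp.omega_fixed (h : Hyp p φ) (H : Subgroup W) (hH : ∀ a : A, ∀ x ∈ H, φ a x ∈ H)
    (h2 : ∀ x ∈ H, x * x = 1) {x : W} (hx : x ∈ H) (a : A) : φ a x = x := by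
  have hcop : (Nat.card A).Coprime (Nat.card H) := h.coprime.coprime_dvd_right H.card_subgroup_dvd_card
  have hmem := CfsgLib.CoprimeAction.mem_closure_fixed (res φ H hH) h.noncyclic hcop ⟨x, hx⟩
  have hfixed : ∀ y : H, (∃ b : A, b ≠ 1 ∧ res φ H hH b y = y) → φ a (y : W) = y := by
    rintro y ⟨b, hb, hy⟩
    have hy' : φ b (y : W) = y := congrArg Subtype.val hy
    by_cases h1 : (y : W) = 1
    · rw [h1, map_one]
    · refine h.fix b hb _ _ (fun e => h1 ((φ a).injective (by rw [e, map_one]))) (h2 _ (hH a _ y.2)) h1 (h2 _ y.2)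
        ?_ hy'
      rw [phi_comm, hy']
  refine (Subgroup.closure_le ((F φ a).comap H.subtype)).2 ?_ hmem
  intro y hy
  exact hfixed y hy

/-- The hypotheses together with the distinguished involution. -/
structure Pt (p : ℕ) (φ : A →* MulAut W) (z : W) : Prop where
  hyp : Hyp p φ
  ne : z ≠ 1
  sq : z * z = 1
  cen : z ∈ Subgroup.center W
  fixed : ∀ a : A, φ a z = z

theorem center_inv (a : A) {x : W} (hx : x ∈ Subgroup.center W) : φ a x ∈ Subgroup.center W := by
  rw [Subgroup.mem_center_iff] at hx ⊢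
  intro g
  obtain ⟨g', rfl⟩ := (φ a).surjective g
  rw [← map_mul, ← map_mul, hx]

theorem Hyp.exists_pt (h : Hyp p φ) : ∃ z, Pt p φ z := by
  haveI := Fact.mk Nat.prime_two
  have hnt : Nontrivial W := by
    by_contra hn
    rw [not_nontrivial_iff_subsingleton] at hn
    obtain ⟨a, ha⟩ := h.exists_ne_one
    exact ha (h.inj (MulEquiv.ext fun x => Subsingleton.elim _ _))
  haveI := h.two.center_nontrivial
  have hd : 2 ∣ Nat.card (Subgroup.center W) := by
    obtain ⟨j, hj⟩ := (h.two.to_subgroup (Subgroup.center W)).exists_card_eq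
    have := Finite.one_lt_card (α := Subgroup.center W)
    rw [hj] at this ⊢
    exact dvd_pow_self 2 (fun e => by rw [e] at this; simp at this)
  obtain ⟨z, hz⟩ := exists_prime_orderOf_dvd_card' 2 hd
  have hz2 : (z : W) * z = 1 := by
    have := pow_orderOf_eq_one z
    rw [hz, pow_two] at this
    exact congrArg Subtype.val this
  let H : Subgroup W :=
    { carrier := {x | x ∈ Subgroup.center W ∧ x * x = 1}
      one_mem' := ⟨one_mem _, mul_one 1⟩
      mul_mem' := fun {x y} hx hy => ⟨mul_mem hx.1 hy.1, by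
        rw [show x * y * (x * y) = x * (y * x) * y by group, Subgroup.mem_center_iff.1 hx.1 y,
          show x * (x * y) * y = (x * x) * (y * y) by group, hx.2, hy.2, one_mul]⟩
      inv_mem' := fun {x} hx => ⟨inv_mem hx.1, by rw [← mul_inv_rev, hx.2, inv_one]⟩ }
  refine ⟨z, h, fun e => ?_, hz2, z.2, fun a => ?_⟩
  · rw [show z = 1 from Subtype.ext e, orderOf_one] at hz
    norm_num at hz
  · exact h.omega_fixed H (fun b x hx => ⟨center_inv b hx.1, by rw [← map_mul, hx.2, map_one]⟩)
      (fun x hx => hx.2) ⟨z.2, hz2⟩ a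

/-- Equality up to the distinguished involution. -/
def Rel (z u v : W) : Prop := u = v ∨ u = v * z

variable {z : W}

theorem Rel.symm (P : Pt p φ z) {u v : W} (h : Rel z u v) : Rel z v u := by
  rcases h with h | h
  · exact Or.inl h.symm
  · exact Or.inr (by rw [h, mul_assoc, P.sq, mul_one])

theorem Rel.trans (P : Pt p φ z) {u v w : W} (h : Rel z u v) (h' : Rel z v w) : Rel z u w := by
  rcases h with rfl | rfl <;> rcases h' with rfl | rfl
  · exact Or.inl rfl
  · exact Or.inr rfl
  · exact Or.inr rfl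
  · exact Or.inl (by rw [mul_assoc, P.sq, mul_one])

theorem Rel.map (P : Pt p φ z) (a : A) {u v : W} (h : Rel z u v) : Rel z (φ a u) (φ a v) := by
  rcases h with rfl | rfl
  · exact Or.inl rfl
  · exact Or.inr (by rw [map_mul, P.fixed])

theorem Pt.fixed_of_rel (P : Pt p φ z) {a : A} {x : W} (h : Rel z (φ a x) x) : φ a x = x := by
  rcases h with h | h
  · exact h
  · exact absurd (P.hyp.twisted h (P.fixed a) P.sq) P.ne

theorem Pt.involution (P : Pt p φ z) {a : A} (ha : a ≠ 1) {x : W} (hx : φ a x = x) (h2 : x * x = 1) : Rel z x 1 := by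
  by_cases h1 : x = 1
  · exact Or.inl h1
  · exact Or.inr (by rw [one_mul]; exact P.hyp.fix a ha x z h1 h2 P.ne P.sq hx (P.fixed a))

/-- Abelian invariant subgroups are centralized. -/
theorem Pt.comm_fixed (P : Pt p φ z) (H : Subgroup W) (hH : ∀ a : A, ∀ x ∈ H, φ a x ∈ H)
    (hc : ∀ x ∈ H, ∀ y ∈ H, x * y = y * x) {x : W} (hx : x ∈ H) (a : A) : φ a x = x := by
  let O : Subgroup W :=
    { carrier := {x | x ∈ H ∧ x * x = 1}
      one_mem' := ⟨one_mem _, mul_one 1⟩
      mul_mem' := fun {x y} hx hy => ⟨mul_mem hx.1 hy.1, by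
        rw [show x * y * (x * y) = x * (y * x) * y by group, hc y hy.1 x hx.1,
          show x * (x * y) * y = (x * x) * (y * y) by group, hx.2, hy.2, one_mul]⟩
      inv_mem' := fun {x} hx => ⟨inv_mem hx.1, by rw [← mul_inv_rev, hx.2, inv_one]⟩ }
  obtain ⟨n, hn⟩ := P.hyp.two x
  induction n generalizing x with
  | zero => rw [pow_zero, pow_one] at hn; rw [hn, map_one]
  | succ n ih =>
    have hsq := ih (x := x * x) (mul_mem hx hx) (by rw [← pow_two, ← pow_mul, ← pow_succ']; exact hn)
    rw [map_mul] at hsq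
    have hu : x⁻¹ * φ a x ∈ O := by
      refine ⟨mul_mem (inv_mem hx) (hH a x hx), ?_⟩
      rw [show x⁻¹ * φ a x * (x⁻¹ * φ a x) = x⁻¹ * (φ a x * x⁻¹) * φ a x by group,
        hc _ (hH a x hx) _ (inv_mem hx),
        show x⁻¹ * (x⁻¹ * φ a x) * φ a x = x⁻¹ * x⁻¹ * (φ a x * φ a x) by group, hsq]
      group
    have hfix := P.hyp.omega_fixed O (fun b y hy => ⟨hH b y hy.1, by rw [← map_mul, hy.2, map_one]⟩)
      (fun y hy => hy.2) hu a
    have := P.hyp.twisted (a := a) (x := x) (u := x⁻¹ * φ a x) (by group) hfix hu.2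
    exact (inv_mul_eq_one.1 this).symm

/-- The action is full: `[W, A] = W`. -/
def Full (φ : A →* MulAut W) : Prop :=
  Subgroup.closure {u : W | ∃ (a : A) (x : W), u = x⁻¹ * φ a x} = ⊤

theorem Pt.mem_commutator (P : Pt p φ z) (hF : Full φ) {x : W} (hx : ∀ a : A, φ a x = x) : x ∈ commutator W := by
  classical
  haveI := Fintype.ofFinite A
  set f := Abelianization.of (G := W)
  let N : W →* Abelianization W := MonoidHom.mk' (fun g => ∏ a : A, f (φ a g)) fun g g' => by
    simp only [map_mul, Finset.prod_mul_distrib]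
  have hN : ∀ g, N g = ∏ a : A, f (φ a g) := fun g => rfl
  have hker : N.ker = ⊤ := by
    rw [eq_top_iff, ← hF, Subgroup.closure_le]
    rintro u ⟨b, y, rfl⟩
    have e : N (φ b y) = N y := by
      rw [hN, hN]
      refine Fintype.prod_equiv (Equiv.mulRight b) _ _ fun a => ?_
      simp only [Equiv.coe_mulRight, map_mul, MulAut.mul_apply]
    rw [SetLike.mem_coe, MonoidHom.mem_ker, map_mul, map_inv, e, inv_mul_cancel]
  have h1 : N x = 1 := MonoidHom.mem_ker.1 (hker ▸ Subgroup.mem_top x)
  rw [hN, Finset.prod_congr rfl (fun a _ => by rw [hx a]), Finset.prod_const, Finset.card_univ,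
    ← Nat.card_eq_fintype_card] at h1
  have h2 : f x ^ Nat.card W = 1 := by rw [← map_pow, pow_card_eq_one', map_one]
  have h3 : f x = 1 := by
    have := pow_gcd_eq_one.2 ⟨h1, h2⟩
    rwa [P.hyp.coprime, pow_one] at this
  have : x ∈ f.ker := MonoidHom.mem_ker.2 h3
  rwa [Abelianization.ker_of] at this

theorem Pt.comm_central (P : Pt p φ z) (hF : Full φ) (H : Subgroup W) (hn : H.Normal)
    (hH : ∀ a : A, ∀ x ∈ H, φ a x ∈ H) (hc : ∀ x ∈ H, ∀ y ∈ H, x * y = y * x) : H ≤ Subgroup.center W := by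
  intro v hv
  have key : ∀ g : W, g * v = v * g := by
    intro g
    have hle : (⊤ : Subgroup W) ≤ Subgroup.centralizer ({v} : Set W) := by
      rw [← hF, Subgroup.closure_le]
      rintro u ⟨a, x, rfl⟩
      rw [SetLike.mem_coe, Subgroup.mem_centralizer_singleton_iff]
      have h1 := P.comm_fixed H hH hc (hn.conj_mem v hv x) a
      rw [map_mul, map_mul, map_inv, P.comm_fixed H hH hc hv a] at h1
      calc x⁻¹ * φ a x * v = x⁻¹ * (φ a x * v * (φ a x)⁻¹) * φ a x := by group
        _ = v * (x⁻¹ * φ a x) := by rw [h1]; group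
    exact Subgroup.mem_centralizer_singleton_iff.1 (hle (Subgroup.mem_top g))
  exact Subgroup.mem_center_iff.2 key

theorem Pt.comm_le_center (P : Pt p φ z) (hF : Full φ) : commutator W ≤ Subgroup.center W := by
  haveI := Fact.mk Nat.prime_two
  by_contra hc
  have hlt : commutator W ⊓ Subgroup.center W < commutator W :=
    lt_of_le_of_ne inf_le_left fun e => hc (inf_eq_left.1 e)
  obtain ⟨x, hx, hxM, hxc⟩ := CfsgLib.PGroup.exists_mem_central_mod P.hyp.two hlt
  let V : Subgroup W :=
    { carrier := {v | v ∈ commutator W ∧ ∀ g : W, ⁅v, g⁆ ∈ Subgroup.center W}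
      one_mem' := ⟨one_mem _, fun g => by simp⟩
      mul_mem' := fun {u v} hu hv => ⟨mul_mem hu.1 hv.1, fun g => by
        have e : ⁅u * v, g⁆ = u * ⁅v, g⁆ * u⁻¹ * ⁅u, g⁆ := by simp only [commutatorElement_def]; group
        rw [e, Subgroup.mem_center_iff.1 (hv.2 g) u, mul_inv_cancel_right]
        exact mul_mem (hv.2 g) (hu.2 g)⟩
      inv_mem' := fun {v} hv => ⟨inv_mem hv.1, fun g => by
        have e : ⁅v⁻¹, g⁆ = v⁻¹ * ⁅v, g⁆⁻¹ * v := by simp only [commutatorElement_def]; group
        rw [e, Subgroup.mem_center_iff.1 (inv_mem (hv.2 g)) v⁻¹, inv_mul_cancel_right]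
        exact inv_mem (hv.2 g)⟩ }
  have hVn : V.Normal := ⟨fun v hv g => by
    have e : g * v * g⁻¹ = ⁅g, v⁆ * v := by rw [commutatorElement_def]; group
    rw [e]
    have hgv : ⁅g, v⁆ ∈ Subgroup.center W := by rw [← commutatorElement_inv]; exact inv_mem (hv.2 g)
    refine mul_mem ⟨Subgroup.commutator_mem_commutator (Subgroup.mem_top _) (Subgroup.mem_top _), fun k => ?_⟩ hv
    rw [commutatorElement_eq_one_iff_mul_comm.2 (Subgroup.mem_center_iff.1 hgv k).symm]
    exact one_mem _⟩
  have hVi : ∀ a : A, ∀ v ∈ V, φ a v ∈ V := fun a v hv => by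
    refine ⟨?_, fun g => ?_⟩
    · have : φ a v ∈ (commutator W).map (φ a).toMonoidHom := ⟨v, hv.1, rfl⟩
      rw [commutator_def, Subgroup.map_commutator,
        Subgroup.map_top_of_surjective _ (φ a).surjective] at this
      rwa [commutator_def]
    · obtain ⟨g', rfl⟩ := (φ a).surjective g
      rw [← map_commutatorElement]
      exact center_inv a (hv.2 g')
  have hVc : ∀ u ∈ V, ∀ v ∈ V, u * v = v * u := by
    intro u hu v hv
    let k : W →* Subgroup.center W := MonoidHom.mk' (fun g => ⟨⁅u, g⁆, hu.2 g⟩) fun g g' => Subtype.ext (by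
      show ⁅u, g * g'⁆ = ⁅u, g⁆ * ⁅u, g'⁆
      have e : ⁅u, g * g'⁆ = ⁅u, g⁆ * (g * ⁅u, g'⁆ * g⁻¹) := by simp only [commutatorElement_def]; group
      rw [e, Subgroup.mem_center_iff.1 (hu.2 g') g, mul_inv_cancel_right])
    have hle : commutator W ≤ k.ker := by
      rw [commutator_def, Subgroup.commutator_le]
      intro a _ b _
      rw [MonoidHom.mem_ker, map_commutatorElement, commutatorElement_eq_one_iff_mul_comm]
      exact Subtype.ext (Subgroup.mem_center_iff.1 (k b).2 _)
    have h1 : v ∈ k.ker := hle hv.1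
    exact commutatorElement_eq_one_iff_mul_comm.1 (congrArg Subtype.val (MonoidHom.mem_ker.1 h1))
  exact hxM ⟨hx, P.comm_central hF V hVn hVi hVc ⟨hx, fun g => (hxc g).2⟩⟩

theorem Pt.center_fixed (P : Pt p φ z) {x : W} (hx : x ∈ Subgroup.center W) (a : A) : φ a x = x :=
  P.comm_fixed (Subgroup.center W) (fun b _ h => center_inv b h)
    (fun u hu v _ => (Subgroup.mem_center_iff.1 hu v).symm) hx a

theorem Pt.center_eq (P : Pt p φ z) (hF : Full φ) : Subgroup.center W = commutator W :=
  le_antisymm (fun _ hx => P.mem_commutator hF (fun a => P.center_fixed hx a)) (P.comm_le_center hF)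

theorem Pt.comm_sq (P : Pt p φ z) (hF : Full φ) (x y : W) : ⁅x, y⁆ * ⁅x, y⁆ = 1 := by
  classical
  have h2 : ∀ a b : W, ⁅a, b⁆ ∈ Subgroup.center W := fun a b =>
    P.comm_le_center hF (Subgroup.commutator_mem_commutator (Subgroup.mem_top _) (Subgroup.mem_top _))
  have hex : ∃ n : ℕ, ∀ a b : W, ⁅a, b⁆ ^ 2 ^ n = 1 := by
    obtain ⟨j, hj⟩ := P.hyp.two.exists_card_eq
    exact ⟨j, fun a b => by rw [← hj, pow_card_eq_one']⟩
  set n := Nat.find hex
  have hn := Nat.find_spec hex
  suffices hle : n ≤ 1 by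
    obtain ⟨d, hd⟩ := pow_dvd_pow 2 hle
    have h1 : ⁅x, y⁆ ^ (2 ^ n * d) = 1 := by rw [pow_mul, hn x y, one_pow]
    rwa [← hd, pow_one, pow_two] at h1
  by_contra hlt
  set m := 2 ^ (n - 1) with hm
  have hm2 : 2 ^ n ∣ m * m := by rw [hm, ← pow_add]; exact pow_dvd_pow 2 (by omega)
  set S := {u : W | ∃ g, u = g ^ m} ∪ (Subgroup.center W : Set W)
  set V := Subgroup.closure S
  have hS : ∀ u ∈ S, ∀ v ∈ S, u * v = v * u := by
    rintro u (⟨g, rfl⟩ | hu) v (⟨k, rfl⟩ | hv)
    · rw [← commutatorElement_eq_one_iff_mul_comm, CfsgLib.PGroup.commutator_pow_left h2,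
        CfsgLib.PGroup.commutator_pow_right h2, ← pow_mul]
      obtain ⟨c, hc⟩ := hm2
      rw [hc, pow_mul, hn, one_pow]
    · exact Subgroup.mem_center_iff.1 hv _
    · exact (Subgroup.mem_center_iff.1 hu _).symm
    · exact (Subgroup.mem_center_iff.1 hu _).symm
  have hVc : ∀ u ∈ V, ∀ v ∈ V, u * v = v * u := by
    have h1 : V ≤ Subgroup.centralizer S := by
      rw [Subgroup.closure_le]
      intro u hu
      rw [SetLike.mem_coe, Subgroup.mem_centralizer_iff]
      exact fun v hv => hS v hv u hu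
    intro u hu v hv
    have h2' : V ≤ Subgroup.centralizer ({u} : Set W) := by
      rw [Subgroup.closure_le]
      intro s hs
      rw [SetLike.mem_coe, Subgroup.mem_centralizer_singleton_iff]
      exact Subgroup.mem_centralizer_iff.1 (h1 hu) s hs
    exact (Subgroup.mem_centralizer_singleton_iff.1 (h2' hv)).symm
  have hVn : V.Normal := ⟨fun v hv g => by
    have key : V ≤ V.comap (MulAut.conj g).toMonoidHom := by
      rw [Subgroup.closure_le]
      rintro s (⟨k, rfl⟩ | hs)
      · refine Subgroup.subset_closure (Or.inl ⟨g * k * g⁻¹, ?_⟩)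
        simp [MulAut.conj_apply]
      · refine Subgroup.subset_closure (Or.inr ?_)
        show g * s * g⁻¹ ∈ Subgroup.center W
        rw [Subgroup.mem_center_iff.1 hs g, mul_inv_cancel_right]; exact hs
    exact key hv⟩
  have hVi : ∀ a : A, ∀ v ∈ V, φ a v ∈ V := fun a v hv => by
    have key : V ≤ V.comap (φ a).toMonoidHom := by
      rw [Subgroup.closure_le]
      rintro s (⟨k, rfl⟩ | hs)
      · exact Subgroup.subset_closure (Or.inl ⟨φ a k, map_pow (φ a) k m⟩)
      · exact Subgroup.subset_closure (Or.inr (center_inv a hs))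
    exact key hv
  have hV := P.comm_central hF V hVn hVi hVc
  refine Nat.find_min hex (m := n - 1) (by omega) fun a b => ?_
  rw [← hm, ← CfsgLib.PGroup.commutator_pow_left h2, commutatorElement_eq_one_iff_mul_comm]
  exact (Subgroup.mem_center_iff.1 (hV (Subgroup.subset_closure (Or.inl ⟨a, rfl⟩))) b).symm

theorem Pt.center_two (P : Pt p φ z) (hF : Full φ) {x : W} (hx : x ∈ Subgroup.center W) : Rel z x 1 := by
  obtain ⟨a, ha⟩ := P.hyp.exists_ne_one
  have hle : commutator W ≤ Subgroup.zpowers z := by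
    rw [commutator_def, Subgroup.commutator_le]
    intro u _ v _
    have hc : ⁅u, v⁆ ∈ Subgroup.center W :=
      P.comm_le_center hF (Subgroup.commutator_mem_commutator (Subgroup.mem_top _) (Subgroup.mem_top _))
    rcases P.involution ha (P.center_fixed hc a) (P.comm_sq hF u v) with h | h
    · rw [h]; exact one_mem _
    · rw [h, one_mul]; exact Subgroup.mem_zpowers z
  obtain ⟨k, rfl⟩ := Subgroup.mem_zpowers_iff.1 (hle (P.center_eq hF ▸ hx))
  rcases Int.even_or_odd k with ⟨l, rfl⟩ | ⟨l, rfl⟩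
  · exact Or.inl (by rw [zpow_add, ← (Commute.refl z).mul_zpow, P.sq, one_zpow])
  · exact Or.inr (by rw [zpow_add_one, zpow_mul, zpow_ofNat, pow_two, P.sq, one_zpow, one_mul])

theorem Pt.sq_mem (P : Pt p φ z) (hF : Full φ) (x : W) : Rel z (x * x) 1 := by
  refine P.center_two hF (Subgroup.mem_center_iff.2 fun g => ?_)
  have h2 : ∀ a b : W, ⁅a, b⁆ ∈ Subgroup.center W := fun a b =>
    P.comm_le_center hF (Subgroup.commutator_mem_commutator (Subgroup.mem_top _) (Subgroup.mem_top _))
  refine (commutatorElement_eq_one_iff_mul_comm.1 ?_).symm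
  rw [← pow_two, CfsgLib.PGroup.commutator_pow_left h2, pow_two, P.comm_sq hF]

theorem Pt.card_center (P : Pt p φ z) (hF : Full φ) : Nat.card (Subgroup.center W) = 2 := by
  have e : Subgroup.center W = Subgroup.zpowers z := by
    refine le_antisymm (fun x hx => ?_) (Subgroup.zpowers_le.2 P.cen)
    rcases P.center_two hF hx with h | h
    · rw [h]; exact one_mem _
    · rw [h, one_mul]; exact Subgroup.mem_zpowers z
  rw [e, Nat.card_zpowers, orderOf_eq_prime (by rw [pow_two, P.sq]) P.ne]

theorem Pt.extraspecial (P : Pt p φ z) (hF : Full φ) : Cfsg.IsExtraspecial 2 W := by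
  haveI := Fact.mk Nat.prime_two
  refine ⟨⟨P.hyp.two, le_antisymm ?_ ?_, (P.center_eq hF).symm⟩, P.card_center hF⟩
  · rw [P.center_eq hF]
    refine CfsgLib.CoprimeAction.frattini_le_of_elementary (p := 2) _ le_rfl fun x => ?_
    rw [← P.center_eq hF, pow_two]
    rcases P.sq_mem hF x with h | h
    · rw [h]; exact one_mem _
    · rw [h, one_mul]; exact P.cen
  · rw [P.center_eq hF]
    exact CfsgLib.CoprimeAction.commutator_le_frattini' P.hyp.two

end CfsgLib.FixedInvolution
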