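import Cfsg.Agent.FixedInvolution.Core
import Cfsg.Agent.PGroup.Extraspecial

/-!
Abelian groups of odd order acting on a `2`-group so that no nontrivial element fixes two involutions:
the group is extraspecial of order `2^5`, `2^7` or `2^9` and the acting group has order `9`.
-/

set_option autoImplicit false
set_option linter.unusedSectionVars false
set_option linter.style.haveILetI false

namespace CfsgLib.FixedInvolution

open scoped commutatorElement

variable {W A : Type*} [Group W] [CommGroup A] [Finite W] [Finite A]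
variable {p : ℕ} {φ : A →* MulAut W} {z : W}

/-- An element of a fixed subgroup of an involution-poor action and its image. -/
structure Config (φ : A →* MulAut W) (z : W) (a b : A) (x y : W) : Prop where
  ne : a ≠ 1
  hx : φ a x = x
  hy : φ a y = y
  move : φ b x = y
  move' : Rel z (φ b y) (x * y)
  nx : ¬ Rel z x 1
  ny : ¬ Rel z y 1
  nxy : ¬ Rel z (x * y) 1
  dxy : ¬ Rel z y x
  sqx : x * x = z
  sqy : y * y = z
  sqxy : x * y * (x * y) = z
  anti : x * y = y * x * z
  list : ∀ k : A, k ≠ 1 → φ k x = x → φ k y = y → ∀ w : W, φ k w = w →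
    Rel z w 1 ∨ Rel z w x ∨ Rel z w y ∨ Rel z w (x * y)

theorem Pt.sq_eq (P : Pt p φ z) (hF : Full φ) {a : A} (ha : a ≠ 1) {x : W} (hx : φ a x = x) (hn : ¬ Rel z x 1) :
    x * x = z := by
  rcases P.sq_mem hF x with h | h
  · exact absurd (P.involution ha hx h) hn
  · rw [h, one_mul]

theorem Pt.comm_z (P : Pt p φ z) (g : W) : g * z = z * g := Subgroup.mem_center_iff.1 P.cen g

theorem Pt.rel_mul_left (P : Pt p φ z) (g : W) {u v : W} (h : Rel z u v) : Rel z (g * u) (g * v) := by
  rcases h with rfl | rfl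
  · exact Or.inl rfl
  · exact Or.inr (by rw [mul_assoc])

theorem Pt.rel_mul_right (P : Pt p φ z) (g : W) {u v : W} (h : Rel z u v) : Rel z (u * g) (v * g) := by
  rcases h with rfl | rfl
  · exact Or.inl rfl
  · exact Or.inr (by rw [mul_assoc, ← P.comm_z g, mul_assoc])

/-- Two fixed elements outside the center commute only when they agree modulo the center. -/
theorem Pt.anti_comm (P : Pt p φ z) (hF : Full φ) {a : A} (ha : a ≠ 1) {x y : W} (hx : φ a x = x) (hy : φ a y = y)
    (nx : ¬ Rel z x 1) (ny : ¬ Rel z y 1) (hd : ¬ Rel z y x) : x * y = y * x * z := by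
  have hc : x * y ≠ y * x := by
    intro hc
    have h1 : x * y * (x * y) = 1 := by
      rw [show x * y * (x * y) = x * (y * x) * y by group, ← hc, show x * (x * y) * y = x * x * (y * y) by group,
        P.sq_eq hF ha hx nx, P.sq_eq hF ha hy ny, P.sq]
    have h2 := P.rel_mul_left x⁻¹ (P.involution ha (by rw [map_mul, hx, hy]) h1)
    rw [inv_mul_cancel_left, mul_one] at h2
    refine hd (Rel.trans P h2 (Or.inr ?_))
    rw [← P.sq_eq hF ha hx nx, inv_eq_iff_mul_eq_one, ← mul_assoc, ← pow_two x]
    have h4 : x * x * (x * x) = 1 := by rw [P.sq_eq hF ha hx nx, P.sq]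
    rw [pow_two, mul_assoc, ← mul_assoc x x x] at *
    exact (by simpa [mul_assoc] using h4)
  have hcm : ⁅x, y⁆ ∈ Subgroup.center W :=
    P.comm_le_center hF (Subgroup.commutator_mem_commutator (Subgroup.mem_top _) (Subgroup.mem_top _))
  rcases P.center_two hF hcm with h | h
  · exact absurd (commutatorElement_eq_one_iff_mul_comm.1 h) hc
  · have e : x * y = ⁅x, y⁆ * (y * x) := by rw [commutatorElement_def]; group
    rw [h, one_mul, ← P.comm_z] at e
    exact e

theorem Pt.config_of (P : Pt p φ z) (hF : Full φ) {a b : A} (ha : a ≠ 1) {x : W} (hx : φ a x = x)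
    (nx : ¬ Rel z x 1) (hb : φ b x ≠ x) : Config φ z a b x (φ b x) := by
  set y := φ b x with hy'
  have hy : φ a y = y := by rw [hy', phi_comm, hx]
  have ny : ¬ Rel z y 1 := fun h => nx (by
    rcases h with h | h
    · exact Or.inl ((φ b).injective (h.trans (map_one (φ b)).symm))
    · exact Or.inr ((φ b).injective (by rw [map_mul, map_one, P.fixed]; exact h)))
  have hd : ¬ Rel z y x := fun h => hb (P.fixed_of_rel h)
  have anti := P.anti_comm hF ha hx hy nx ny hd
  have hxy : φ a (x * y) = x * y := by rw [map_mul, hx, hy]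
  have nxy : ¬ Rel z (x * y) 1 := fun h => by
    have hc : x * y = y * x := by
      have hcen : x * y ∈ Subgroup.center W := by
        rcases h with h | h
        · rw [h]; exact one_mem _
        · rw [h, one_mul]; exact P.cen
      have := Subgroup.mem_center_iff.1 hcen x
      calc x * y = x⁻¹ * (x * (x * y)) := by group
        _ = x⁻¹ * (x * y * x) := by rw [this]
        _ = y * x := by group
    rw [hc] at anti
    exact P.ne (left_eq_mul.1 anti)
  have list : ∀ k : A, k ≠ 1 → φ k x = x → φ k y = y → ∀ w : W, φ k w = w →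
      Rel z w 1 ∨ Rel z w x ∨ Rel z w y ∨ Rel z w (x * y) := by
    intro k hk kx ky w kw
    by_cases h1 : Rel z w 1
    · exact Or.inl h1
    by_cases h2 : Rel z w x
    · exact Or.inr (Or.inl h2)
    by_cases h3 : Rel z w y
    · exact Or.inr (Or.inr (Or.inl h3))
    refine Or.inr (Or.inr (Or.inr ?_))
    by_contra h4
    have e1 := P.anti_comm hF hk kx kw nx h1 h2
    have e2 := P.anti_comm hF hk ky kw ny h1 h3
    have e3 := P.anti_comm hF hk (show φ k (x * y) = x * y by rw [map_mul, kx, ky]) kw nxy h1 h4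
    apply P.ne
    have : w * (x * y) * z = w * (x * y) := by
      rw [← e3, mul_assoc x y w, e2, ← mul_assoc, ← mul_assoc, e1, mul_assoc (w * x) z y, ← P.comm_z y,
        ← mul_assoc, mul_assoc (w * x * y) z z, P.sq, mul_one, mul_assoc]
    exact mul_eq_left.1 this
  refine ⟨ha, hx, hy, rfl, ?_, nx, ny, nxy, hd, P.sq_eq hF ha hx nx, P.sq_eq hF ha hy ny,
    P.sq_eq hF ha hxy nxy, anti, list⟩
  have hby : φ a (φ b y) = φ b y := by rw [phi_comm, hy]
  rcases list a ha hx hy (φ b y) hby with h | h | h | h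
  · exfalso
    rcases h with h | h
    · exact ny (Or.inl ((φ b).injective (h.trans (map_one (φ b)).symm)))
    · exact ny (Or.inr ((φ b).injective (by rw [map_mul, map_one, P.fixed]; exact h)))
  · exfalso
    refine hb (P.hyp.fixed_of_sq (P.fixed_of_rel ?_))
    rw [map_mul, MulAut.mul_apply]
    exact h
  · exfalso
    exact hb ((φ b).injective (P.fixed_of_rel h))
  · exact h

theorem Pt.exists_config (P : Pt p φ z) (hF : Full φ) : ∃ a b x y, Config φ z a b x y := by
  suffices h : ∃ a, a ≠ 1 ∧ ∃ x, φ a x = x ∧ ¬ Rel z x 1 by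
    obtain ⟨a, ha, x, hx, nx⟩ := h
    have hb : ∃ b, φ b x ≠ x := by
      by_contra hc
      push Not at hc
      exact nx (P.center_two hF (P.center_eq hF ▸ P.mem_commutator hF hc))
    obtain ⟨b, hb⟩ := hb
    exact ⟨a, b, x, _, P.config_of hF ha hx nx hb⟩
  by_contra hc
  push Not at hc
  obtain ⟨a, ha⟩ := P.hyp.exists_ne_one
  apply ha
  refine P.hyp.inj ?_
  rw [map_one]
  refine MulEquiv.ext fun w => ?_
  refine P.center_fixed (P.hyp.gen (S := Subgroup.center W) (fun b hb y hy => ?_) w) a
  rcases hc b hb y hy with h | h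
  · rw [h]; exact one_mem _
  · rw [h, one_mul]; exact P.cen

theorem Pt.cube_eq_one (P : Pt p φ z) (hF : Full φ) (b : A) : b * b * b = 1 := by
  refine P.hyp.inj ?_
  rw [map_one]
  refine MulEquiv.ext fun w => ?_
  refine (P.hyp.gen (S := F φ (b * b * b)) (fun a ha x hx => ?_) w : φ (b * b * b) w = w)
  show φ (b * b * b) x = x
  simp only [map_mul, MulAut.mul_apply]
  by_cases hn : Rel z x 1
  · have hbx : φ b x = x := by
      rcases hn with h | h
      · rw [h, map_one]
      · rw [h, map_mul, map_one, P.fixed]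
    rw [hbx, hbx, hbx]
  by_cases hb : φ b x = x
  · rw [hb, hb, hb]
  have C := P.config_of hF ha hx hn hb
  rcases C.move' with h | h <;> rw [h]
  · rw [map_mul, h, C.anti]
    set y := φ b x
    calc y * (y * x * z) = y * y * x * z := by group
      _ = x := by rw [C.sqy, ← P.comm_z x, mul_assoc, P.sq, mul_one]
  · rw [map_mul, map_mul, P.fixed, h]
    set y := φ b x
    calc y * (x * y * z) * z = y * (x * y) * (z * z) := by group
      _ = y * (y * x * z) := by rw [P.sq, mul_one, C.anti]
      _ = y * y * x * z := by group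
      _ = x := by rw [C.sqy, ← P.comm_z x, mul_assoc, P.sq, mul_one]

theorem Pt.prime_three (P : Pt p φ z) (hF : Full φ) : p = 3 := by
  haveI := Fact.mk P.hyp.prime
  obtain ⟨a, ha⟩ := P.hyp.exists_ne_one
  obtain ⟨k, hk⟩ := IsPGroup.iff_orderOf.1 P.hyp.pgroup a
  have h3 : a ^ 3 = 1 := by rw [pow_succ, pow_two]; exact P.cube_eq_one hF a
  rw [orderOf_eq_prime h3 ha] at hk
  have hd : p ∣ 3 := hk ▸ dvd_pow_self p (fun e => by rw [e] at hk; norm_num at hk)
  exact (Nat.prime_dvd_prime_iff_eq P.hyp.prime Nat.prime_three).1 hd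

theorem Pt.card_acting (P : Pt p φ z) (hF : Full φ) : Nat.card A = 9 := by
  classical
  obtain ⟨a, b, x, y, C⟩ := P.exists_config hF
  haveI := Fact.mk Nat.prime_three
  have hp3 := P.prime_three hF
  have hA : IsPGroup 3 A := hp3 ▸ P.hyp.pgroup
  let K : Subgroup A :=
    { carrier := {k | φ k x = x}
      one_mem' := by simp
      mul_mem' := fun {k l} hk hl => by
        show φ (k * l) x = x
        rw [map_mul, MulAut.mul_apply, (show φ l x = x from hl), (show φ k x = x from hk)]
      inv_mem' := fun {k} hk => by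
        show φ k⁻¹ x = x
        conv_lhs => rw [← (show φ k x = x from hk)]
        rw [← MulAut.mul_apply, ← map_mul, inv_mul_cancel, map_one, MulAut.one_apply] }
  let f : A → Fin 3 := fun k => if Rel z (φ k x) x then 0 else if Rel z (φ k x) y then 1 else 2
  have hcls : ∀ k, Rel z (φ k x) x ∨ Rel z (φ k x) y ∨ Rel z (φ k x) (x * y) := by
    intro k
    rcases C.list a C.ne C.hx C.hy (φ k x) (by rw [phi_comm, C.hx]) with h | h | h | h
    · exfalso
      refine C.nx ?_
      rcases h with h | h
      · exact Or.inl ((φ k).injective (h.trans (map_one (φ k)).symm))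
      · exact Or.inr ((φ k).injective (by rw [map_mul, map_one, P.fixed]; exact h))
    · exact Or.inl h
    · exact Or.inr (Or.inl h)
    · exact Or.inr (Or.inr h)
  have hf : ∀ k l, f k = f l → k⁻¹ * l ∈ K := by
    intro k l hkl
    have hr : Rel z (φ k x) (φ l x) := by
      by_cases k1 : Rel z (φ k x) x <;> by_cases l1 : Rel z (φ l x) x <;>
        by_cases k2 : Rel z (φ k x) y <;> by_cases l2 : Rel z (φ l x) y <;>
        simp only [f, k1, l1, k2, l2, if_true, if_false] at hkl <;>
        first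
          | exact Rel.trans P k1 (Rel.symm P l1)
          | exact Rel.trans P k2 (Rel.symm P l2)
          | exact Rel.trans P (((hcls k).resolve_left k1).resolve_left k2)
              (Rel.symm P (((hcls l).resolve_left l1).resolve_left l2))
          | exact absurd hkl (by decide)
    refine P.fixed_of_rel ?_
    have := Rel.map P k⁻¹ (Rel.symm P hr)
    rwa [← MulAut.mul_apply, ← map_mul, ← MulAut.mul_apply, ← map_mul, inv_mul_cancel, map_one,
      MulAut.one_apply] at this
  have hind : Nat.card (A ⧸ K) ≤ 3 := by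
    have hinj : Function.Injective (fun q : A ⧸ K => f q.out) := fun q r h => by
      rw [← q.out_eq, ← r.out_eq]
      exact QuotientGroup.eq.2 (hf _ _ h)
    simpa using Nat.card_le_card_of_injective _ hinj
  have hcard : Nat.card A ≤ 3 * Nat.card K := by
    rw [Subgroup.card_eq_card_quotient_mul_card_subgroup K]
    exact Nat.mul_le_mul_right _ hind
  obtain ⟨j, hj⟩ := hA.exists_card_eq
  have hexp : ∀ k : A, k ^ 3 = 1 := fun k => by rw [pow_succ, pow_two]; exact P.cube_eq_one hF k
  have hj2 : 2 ≤ j := by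
    by_contra h
    interval_cases j
    · exact P.hyp.noncyclic (haveI := (Nat.card_eq_one_iff_unique.1 (by rw [hj, pow_zero])).1; inferInstance)
    · exact P.hyp.noncyclic (isCyclic_of_prime_card (by rw [hj, pow_one]))
  have hj3 : j ≤ 2 := by
    by_contra h
    have hK : 9 ≤ Nat.card K := by
      have : 3 ^ 3 ≤ Nat.card A := by rw [hj]; exact Nat.pow_le_pow_right (by norm_num) (by omega)
      omega
    have hKc : ¬ IsCyclic K := by
      intro hc
      obtain ⟨g, hg⟩ := hc.exists_generator
      have h1 := orderOf_eq_card_of_forall_mem_zpowers hg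
      have h2 := Nat.le_of_dvd (by norm_num) (orderOf_dvd_of_pow_eq_one (show g ^ 3 = 1 from Subtype.ext (hexp g)))
      omega
    have hcop : (Nat.card K).Coprime (Nat.card W) := P.hyp.coprime.coprime_dvd_left K.card_subgroup_dvd_card
    refine C.ne (P.hyp.inj (MulEquiv.ext fun w => ?_))
    rw [map_one, MulAut.one_apply]
    refine ((Subgroup.closure_le (F φ a)).2 ?_
      (CfsgLib.CoprimeAction.mem_closure_fixed (φ.comp K.subtype) hKc hcop w) : φ a w = w)
    rintro v ⟨k, hk, hv⟩
    have kx : φ (k : A) x = x := k.2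
    have ky : φ (k : A) y = y := by rw [← C.move, phi_comm, kx]
    show φ a v = v
    rcases C.list k (fun e => hk (Subtype.ext e)) kx ky v hv with h | h | h | h <;> rcases h with h | h <;> rw [h] <;>
      simp only [map_mul, map_one, C.hx, C.hy, P.fixed]
  rw [hj, le_antisymm hj3 hj2]
  norm_num

theorem Pt.card_fixed_le (P : Pt p φ z) (hF : Full φ) {a : A} (ha : a ≠ 1) : Nat.card (F φ a) ≤ 8 := by
  classical
  have key : ∃ s : Finset W, s.card ≤ 8 ∧ ∀ w ∈ F φ a, w ∈ s := by
    by_cases hex : ∃ x, φ a x = x ∧ ¬ Rel z x 1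
    · obtain ⟨x, hx, nx⟩ := hex
      have hb : ∃ b, φ b x ≠ x := by
        by_contra hc
        push Not at hc
        exact nx (P.center_two hF (P.center_eq hF ▸ P.mem_commutator hF hc))
      obtain ⟨b, hb⟩ := hb
      have C := P.config_of hF ha hx nx hb
      refine ⟨{1, 1 * z, x, x * z, φ b x, φ b x * z, x * φ b x, x * φ b x * z}, ?_, fun w hw => ?_⟩
      · exact (Finset.card_insert_le _ _).trans (Nat.add_le_add_right ((Finset.card_insert_le _ _).trans (Nat.add_le_add_right ((Finset.card_insert_le _ _).trans (Nat.add_le_add_right ((Finset.card_insert_le _ _).trans (Nat.add_le_add_right ((Finset.card_insert_le _ _).trans (Nat.add_le_add_right ((Finset.card_insert_le _ _).trans (Nat.add_le_add_right ((Finset.card_insert_le _ _).trans (Nat.add_le_add_right (le_of_eq (Finset.card_singleton _)) 1)) 1)) 1)) 1)) 1)) 1)) 1)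
      rcases C.list a ha hx C.hy w hw with h | h | h | h <;> rcases h with h | h <;> simp [h]
    · push Not at hex
      refine ⟨{1, 1 * z}, Finset.card_le_two.trans (by norm_num), fun w hw => ?_⟩
      rcases hex w hw with h | h <;> simp [h]
  obtain ⟨s, hs, hsub⟩ := key
  refine le_trans ?_ hs
  have h : Nat.card (F φ a) ≤ Nat.card (s : Set W) :=
    Nat.card_mono s.finite_toSet (fun w hw => hsub w hw)
  rwa [Nat.card_coe_set_eq, Set.ncard_coe_finset] at h

theorem card_sup_mul (N H : Subgroup W) [N.Normal] :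
    Nat.card (N ⊔ H : Subgroup W) * Nat.card (N ⊓ H : Subgroup W) = Nat.card N * Nat.card H := by
  have h1 : Nat.card (N ⊔ H : Subgroup W) = Nat.card N * N.relIndex (N ⊔ H) := by
    have := Subgroup.card_mul_index (N.subgroupOf (N ⊔ H))
    rw [Nat.card_congr (Subgroup.subgroupOfEquivOfLe le_sup_left).toEquiv] at this
    exact this.symm
  have h2 : Nat.card H = Nat.card (N ⊓ H : Subgroup W) * N.relIndex H := by
    have := Subgroup.card_mul_index (N.subgroupOf H)
    rw [← Subgroup.inf_subgroupOf_right, Nat.card_congr (Subgroup.subgroupOfEquivOfLe (inf_le_right : N ⊓ H ≤ H)).toEquiv,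
      Subgroup.inf_subgroupOf_right] at this
    exact this.symm
  rw [h1, h2, Subgroup.relIndex_sup_left]
  ring

theorem Pt.card_group (P : Pt p φ z) (hF : Full φ) :
    Nat.card W = 2 ^ 5 ∨ Nat.card W = 2 ^ 7 ∨ Nat.card W = 2 ^ 9 := by
  classical
  haveI := Fact.mk Nat.prime_two
  obtain ⟨n, hn, hcard⟩ := CfsgLib.Extraspecial.exists_card (p := 2) (P.extraspecial hF)
  have hA := P.card_acting hF
  have hexp : ∀ k : A, k ^ 3 = 1 := fun k => by rw [pow_succ, pow_two]; exact P.cube_eq_one hF k
  -- two independent elements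
  obtain ⟨u, hu⟩ := P.hyp.exists_ne_one
  have hzu : Nat.card (Subgroup.zpowers u) = 3 := by
    haveI := Fact.mk Nat.prime_three
    rw [Nat.card_zpowers, orderOf_eq_prime (hexp u) hu]
  have hex : ∃ v, v ∉ Subgroup.zpowers u := by
    by_contra hc
    push Not at hc
    have : Subgroup.zpowers u = ⊤ := eq_top_iff.2 fun g _ => hc g
    rw [this, Subgroup.card_top, hA] at hzu
    norm_num at hzu
  obtain ⟨v, hv⟩ := hex
  have huv : ∀ k : A, ∃ i j : Fin 3, k = u ^ (i : ℕ) * v ^ (j : ℕ) := by
    let g : Fin 3 × Fin 3 → A := fun ij => u ^ (ij.1 : ℕ) * v ^ (ij.2 : ℕ)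
    have hg : Function.Injective g := by
      rintro ⟨i, j⟩ ⟨i', j'⟩ h
      simp only [g] at h
      have hjj : j = j' := by
        have hmem : v ^ (j : ℕ) * (v ^ (j' : ℕ))⁻¹ ∈ Subgroup.zpowers u := by
          have e : v ^ (j : ℕ) * (v ^ (j' : ℕ))⁻¹ = (u ^ (i : ℕ))⁻¹ * u ^ (i' : ℕ) := by
            rw [eq_inv_mul_iff_mul_eq, ← mul_assoc, h, mul_inv_cancel_right]
          rw [e]
          exact mul_mem (inv_mem (Subgroup.npow_mem_zpowers u _)) (Subgroup.npow_mem_zpowers u _)
        by_contra hne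
        have hv3 : v * v * v = 1 := P.cube_eq_one hF v
        have h2 : v⁻¹ = v * v := inv_eq_of_mul_eq_one_right (by rw [← mul_assoc, hv3])
        apply hv
        fin_cases j <;> fin_cases j' <;> simp at hne hmem ⊢ <;>
          first
            | exact hmem
            | (have := inv_mem hmem; simp at this; exact this)
            | (rw [h2] at hmem; have := inv_mem hmem; simp [h2, mul_assoc] at this; exact this)
            | (have := mul_mem hmem hmem; simp [pow_two, h2, mul_assoc, hv3] at this hmem ⊢; simp_all [mul_assoc])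
      subst hjj
      rw [mul_right_cancel_iff] at h
      have := pow_injOn_Iio_orderOf (x := u) (Set.mem_Iio.2 (by rw [← Nat.card_zpowers, hzu]; exact i.2))
        (Set.mem_Iio.2 (by rw [← Nat.card_zpowers, hzu]; exact i'.2)) h
      exact Prod.ext (Fin.ext this) rfl
    haveI := Fintype.ofFinite A
    have hsurj : Function.Surjective g := ((Fintype.bijective_iff_injective_and_card g).2
      ⟨hg, by rw [← Nat.card_eq_fintype_card, ← Nat.card_eq_fintype_card (α := A), hA]; simp⟩).2
    intro k
    obtain ⟨⟨i, j⟩, hij⟩ := hsurj k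
    exact ⟨i, j, hij.symm⟩
  have hne : ∀ i : ℕ, u * v ^ i ≠ 1 := fun i e => by
    rcases Nat.eq_zero_or_pos (i % 3) with h0 | h0
    · rw [← Nat.mod_add_div i 3, h0, zero_add, pow_mul, hexp, one_pow, mul_one] at e; exact hu e
    · apply hv
      have hmem : v ^ i ∈ Subgroup.zpowers u := by
        rw [eq_inv_of_mul_eq_one_right e]; exact inv_mem (Subgroup.mem_zpowers u)
      rw [← Nat.mod_add_div i 3, pow_add, pow_mul, hexp, one_pow, mul_one] at hmem
      have h12 : i % 3 = 1 ∨ i % 3 = 2 := by omega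
      rcases h12 with h | h <;> rw [h] at hmem
      · simpa using hmem
      · have := mul_mem hmem hmem
        rwa [← pow_add, show 2 + 2 = 3 + 1 from rfl, pow_succ, hexp, one_mul] at this
  have hvne : v ≠ 1 := fun e => hv (e ▸ one_mem _)
  -- the four fixed subgroups
  set F1 := F φ u
  set F2 := F φ v
  set F3 := F φ (u * v)
  set F4 := F φ (u * v ^ 2)
  have hz : ∀ k, z ∈ F φ k := fun k => P.fixed k
  have hnorm : ∀ k, (F φ k).Normal := fun k => ⟨fun w hw g => by
    have e : g * w * g⁻¹ = ⁅g, w⁆ * w := by rw [commutatorElement_def]; group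
    rw [e]
    refine mul_mem ?_ hw
    exact P.center_fixed (P.comm_le_center hF
      (Subgroup.commutator_mem_commutator (Subgroup.mem_top _) (Subgroup.mem_top _))) k⟩
  have hsq : ∀ (k : A) (w : W), φ (k ^ 2) w = w → φ k w = w := fun k w h =>
    P.hyp.fixed_of_sq (by rwa [← pow_two])
  have htop : F1 ⊔ F2 ⊔ F3 ⊔ F4 = ⊤ := by
    rw [eq_top_iff]
    intro w _
    refine P.hyp.gen (fun k hk x hx => ?_) w
    obtain ⟨i, j, rfl⟩ := huv k
    have h1 : ∀ {S : Subgroup W}, x ∈ S → S ≤ F1 ⊔ F2 ⊔ F3 ⊔ F4 → x ∈ F1 ⊔ F2 ⊔ F3 ⊔ F4 := fun h h' => h' h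
    have l1 : F1 ≤ F1 ⊔ F2 ⊔ F3 ⊔ F4 := le_sup_left.trans (le_sup_left.trans le_sup_left)
    have l2 : F2 ≤ F1 ⊔ F2 ⊔ F3 ⊔ F4 := le_sup_right.trans (le_sup_left.trans le_sup_left)
    have l3 : F3 ≤ F1 ⊔ F2 ⊔ F3 ⊔ F4 := le_sup_right.trans le_sup_left
    have l4 : F4 ≤ F1 ⊔ F2 ⊔ F3 ⊔ F4 := le_sup_right
    have hu2 : (u * v) ^ 2 = u ^ 2 * v ^ 2 := mul_pow u v 2
    have hu4 : (u * v ^ 2) ^ 2 = u ^ 2 * v := by
      rw [mul_pow, ← pow_mul, show 2 * 2 = 3 + 1 from rfl, pow_succ v 3, hexp, one_mul]
    fin_cases i <;> fin_cases j <;> simp only [pow_zero, pow_one, one_mul, mul_one] at hx hk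
    · exact absurd rfl hk
    · exact h1 (show x ∈ F2 from hx) l2
    · exact h1 (show x ∈ F2 from hsq v x hx) l2
    · exact h1 (show x ∈ F1 from hx) l1
    · exact h1 (show x ∈ F3 from hx) l3
    · exact h1 (show x ∈ F4 from hx) l4
    · exact h1 (show x ∈ F1 from hsq u x hx) l1
    · exact h1 (show x ∈ F4 from hsq _ x (by rw [hu4]; exact hx)) l4
    · exact h1 (show x ∈ F3 from hsq _ x (by rw [hu2]; exact hx)) l3
  have hstep : ∀ (N H : Subgroup W), N.Normal → z ∈ N → z ∈ H → Nat.card H ≤ 8 →
      Nat.card (N ⊔ H : Subgroup W) ≤ 4 * Nat.card N := by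
    intro N H hN h1 h2 h8
    haveI := hN
    have h := card_sup_mul N H
    have h2' : 2 ≤ Nat.card (N ⊓ H : Subgroup W) := by
      refine le_trans ?_ (Subgroup.card_le_of_le (show Subgroup.zpowers z ≤ N ⊓ H from Subgroup.zpowers_le.2 ⟨h1, h2⟩))
      rw [Nat.card_zpowers, orderOf_eq_prime (by rw [pow_two, P.sq]) P.ne]
    nlinarith
  have h12 : Nat.card (F1 ⊔ F2 : Subgroup W) ≤ 4 * 8 :=
    (hstep F1 F2 (hnorm _) (hz _) (hz _) (P.card_fixed_le hF hvne)).trans
      (Nat.mul_le_mul_left _ (P.card_fixed_le hF hu))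
  haveI := hnorm u; haveI := hnorm v; haveI := hnorm (u * v); haveI := hnorm (u * v ^ 2)
  have h123 : Nat.card (F1 ⊔ F2 ⊔ F3 : Subgroup W) ≤ 4 * (4 * 8) :=
    (hstep _ F3 inferInstance (Subgroup.mem_sup_left (hz _)) (hz _)
      (P.card_fixed_le hF (by simpa using hne 1))).trans (Nat.mul_le_mul_left _ h12)
  have hall : Nat.card W ≤ 4 * (4 * (4 * 8)) := by
    rw [← Subgroup.card_top (G := W), ← htop]
    exact (hstep _ F4 inferInstance (Subgroup.mem_sup_left (Subgroup.mem_sup_left (hz _))) (hz _)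
      (P.card_fixed_le hF (hne 2))).trans (Nat.mul_le_mul_left _ h123)
  have hn4 : n ≤ 4 := by
    by_contra h
    have : 2 ^ 11 ≤ Nat.card W := by rw [hcard]; exact Nat.pow_le_pow_right (by norm_num) (by omega)
    omega
  have hn1 : n ≠ 1 := by
    intro e
    subst e
    obtain ⟨a, b, x, y, C⟩ := P.exists_config hF
    have hlt : F φ a ≠ ⊤ := fun h => C.ne (P.hyp.inj (MulEquiv.ext fun w => by
      rw [map_one, MulAut.one_apply]; exact (h ▸ Subgroup.mem_top w : w ∈ F φ a)))
    have hd : Nat.card (F φ a) ∣ 8 := by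
      have := (F φ a).card_subgroup_dvd_card
      rwa [hcard] at this
    have h5 : 5 ≤ Nat.card (F φ a) := by
      have hs : (↑({1, z, x, y, x * y} : Finset W) : Set W) ⊆ (F φ a : Set W) := by
        intro w hw
        simp only [Finset.coe_insert, Finset.coe_singleton, Set.mem_insert_iff, Set.mem_singleton_iff] at hw
        show φ a w = w
        rcases hw with rfl | rfl | rfl | rfl | rfl
        · exact map_one _
        · exact P.fixed a
        · exact C.hx
        · exact C.hy
        · rw [map_mul, C.hx, C.hy]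
      refine le_trans (le_of_eq ?_) (Nat.card_mono (Set.toFinite _) hs)
      rw [Nat.card_coe_set_eq, Set.ncard_coe_finset]
      have d1 : (1 : W) ∉ ({z, x, y, x * y} : Finset W) := by
        simp only [Finset.mem_insert, Finset.mem_singleton, not_or]
        exact ⟨P.ne.symm, fun h => C.nx (Or.inl h.symm), fun h => C.ny (Or.inl h.symm), fun h => C.nxy (Or.inl h.symm)⟩
      have d2 : z ∉ ({x, y, x * y} : Finset W) := by
        simp only [Finset.mem_insert, Finset.mem_singleton, not_or]
        exact ⟨fun h => C.nx (Or.inr (by rw [one_mul, h])), fun h => C.ny (Or.inr (by rw [one_mul, h])),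
          fun h => C.nxy (Or.inr (by rw [one_mul, h]))⟩
      have d3 : x ∉ ({y, x * y} : Finset W) := by
        simp only [Finset.mem_insert, Finset.mem_singleton, not_or]
        exact ⟨fun h => C.dxy (Or.inl h.symm), fun h => C.ny (Or.inl (left_eq_mul.1 h))⟩
      have d4 : y ∉ ({x * y} : Finset W) := by
        simp only [Finset.mem_singleton]
        exact fun h => C.nx (Or.inl (right_eq_mul.1 h))
      rw [Finset.card_insert_of_notMem d1, Finset.card_insert_of_notMem d2, Finset.card_insert_of_notMem d3,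
        Finset.card_insert_of_notMem d4, Finset.card_singleton]
    refine hlt (Subgroup.eq_top_of_card_eq _ ?_)
    rw [hcard]
    have := Nat.le_of_dvd (by norm_num) hd
    interval_cases hc : Nat.card (F φ a) <;> first | rfl | (norm_num at hd)
  interval_cases n
  · exact absurd rfl hn1
  · exact Or.inl hcard
  · exact Or.inr (Or.inl hcard)
  · exact Or.inr (Or.inr hcard)

/-- The action is automatically full. -/
theorem Pt.full (P : Pt p φ z) : Full φ := by
  classical
  set D := Subgroup.closure {u : W | ∃ (a : A) (x : W), u = x⁻¹ * φ a x} with hD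
  have hDi : ∀ a : A, ∀ x ∈ D, φ a x ∈ D := by
    intro a x hx
    have key : D ≤ D.comap (φ a).toMonoidHom := by
      rw [hD, Subgroup.closure_le]
      rintro u ⟨b, y, rfl⟩
      refine Subgroup.subset_closure ⟨b, φ a y, ?_⟩
      show φ a (y⁻¹ * φ b y) = _
      rw [map_mul, map_inv, phi_comm]
    exact key hx
  have hDn : D.Normal := ⟨fun x hx g => by
    have key : D ≤ D.comap (MulAut.conj g).toMonoidHom := by
      rw [hD, Subgroup.closure_le]
      rintro u ⟨b, y, rfl⟩
      show g * (y⁻¹ * φ b y) * g⁻¹ ∈ D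
      have e : g * (y⁻¹ * φ b y) * g⁻¹ =
          ((y * g⁻¹)⁻¹ * φ b (y * g⁻¹)) * (g⁻¹⁻¹ * φ b g⁻¹)⁻¹ := by
        rw [map_mul]; group
      rw [e]
      exact mul_mem (Subgroup.subset_closure ⟨b, _, rfl⟩) (inv_mem (Subgroup.subset_closure ⟨b, _, rfl⟩))
    exact key hx⟩
  have hdec : ∀ w : W, ∃ d ∈ D, ∃ t : W, (∀ a, φ a t = t) ∧ w = d * t := by
    intro w
    obtain ⟨n, hn, ht⟩ := CfsgLib.CoprimeAction.exists_fixed_of_coset φ hDi
      (P.hyp.coprime.coprime_dvd_right D.card_subgroup_dvd_card)
      (Or.inl (Group.isSolvable_of_comm mul_comm)) (k := w) (fun a => by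
        have h1 : w * (w⁻¹ * φ a w) * w⁻¹ ∈ D := hDn.conj_mem _ (Subgroup.subset_closure ⟨a, w, rfl⟩) w
        rwa [mul_inv_cancel_left] at h1)
    exact ⟨n⁻¹, inv_mem hn, n * w, ht, by group⟩
  -- the restricted action
  set ψ := res φ D hDi with hψ
  have hψF : Full ψ := by
    unfold Full
    set D0 := Subgroup.closure {u : D | ∃ (a : A) (x : D), u = x⁻¹ * ψ a x} with hD0
    have key : D ≤ D0.map D.subtype := by
      conv_lhs => rw [hD]
      rw [Subgroup.closure_le]
      rintro u ⟨b, w, rfl⟩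
      obtain ⟨d, hd, t, ht, rfl⟩ := hdec w
      have hd' : t⁻¹ * d * t ∈ D := by simpa using hDn.conj_mem d hd t⁻¹
      refine ⟨⟨t⁻¹ * d * t, hd'⟩⁻¹ * ψ b ⟨t⁻¹ * d * t, hd'⟩, Subgroup.subset_closure ⟨b, _, rfl⟩, ?_⟩
      show (t⁻¹ * d * t)⁻¹ * φ b (t⁻¹ * d * t) = _
      rw [map_mul, map_mul, map_inv, map_mul, ht]
      group
    rw [eq_top_iff]
    intro x _
    obtain ⟨y, hy, e⟩ := key x.2
    exact Subtype.ext (a1 := y) (a2 := x) e ▸ hy
  have hψh : Hyp p ψ := by
    refine ⟨P.hyp.prime, P.hyp.odd, P.hyp.two.to_subgroup D, P.hyp.pgroup, P.hyp.noncyclic, ?_, ?_⟩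
    · rw [injective_iff_map_eq_one]
      intro a ha
      refine P.hyp.inj ?_
      rw [map_one]
      refine CfsgLib.CoprimeAction.mulAut_eq_one_of_chain (φ a) D ?_ (fun n hn => ?_)
        (fun w => Subgroup.subset_closure ⟨a, w, rfl⟩)
      · refine (P.hyp.coprime.coprime_dvd_right D.card_subgroup_dvd_card).coprime_dvd_left ?_
        exact (orderOf_map_dvd φ a).trans (orderOf_dvd_natCard a)
      · have := DFunLike.congr_fun ha ⟨n, hn⟩
        exact congrArg Subtype.val this
    · intro a ha x y hx hx2 hy hy2 fx fy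
      exact Subtype.ext (P.hyp.fix a ha x y (fun e => hx (Subtype.ext e)) (congrArg Subtype.val hx2)
        (fun e => hy (Subtype.ext e)) (congrArg Subtype.val hy2) (congrArg Subtype.val fx) (congrArg Subtype.val fy))
  obtain ⟨z', Q⟩ := hψh.exists_pt
  obtain ⟨a, b, x, y, C⟩ := Q.exists_config hψF
  have hzz : (z' : W) = z := P.hyp.fix a C.ne _ _ (fun e => Q.ne (Subtype.ext e)) (congrArg Subtype.val Q.sq)
    P.ne P.sq (congrArg Subtype.val (Q.fixed a)) (P.fixed a)
  have hzD : z ∈ D := hzz ▸ z'.2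
  have hR : ∀ {u v : D}, Rel z' u v → Rel z (u : W) (v : W) := by
    rintro u v (h | h)
    · exact Or.inl (congrArg Subtype.val h)
    · exact Or.inr (by rw [← hzz]; exact congrArg Subtype.val h)
  have hR' : ∀ {u v : D}, Rel z (u : W) (v : W) → Rel z' u v := by
    rintro u v (h | h)
    · exact Or.inl (Subtype.ext h)
    · exact Or.inr (Subtype.ext (by show (u : W) = v * z'; rw [hzz]; exact h))
  suffices hT : ∀ t : W, (∀ c, φ c t = t) → Rel z t 1 by
    unfold Full
    rw [eq_top_iff]
    intro w _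
    obtain ⟨d, hd, t, ht, rfl⟩ := hdec w
    rcases hT t ht with h | h
    · rw [h, mul_one]; exact hd
    · rw [h, one_mul]; exact mul_mem hd hzD
  intro t ht
  by_contra htn
  obtain ⟨n, hn⟩ := P.hyp.two t
  have hexn : ∃ n : ℕ, Rel z (t ^ 2 ^ n) 1 := ⟨n, Or.inl hn⟩
  obtain ⟨k, hk⟩ : ∃ k, Nat.find hexn = k + 1 := by
    refine ⟨Nat.find hexn - 1, (Nat.succ_pred_eq_of_pos (Nat.pos_of_ne_zero fun e => htn ?_)).symm⟩
    have := Nat.find_spec hexn
    rwa [e, pow_zero, pow_one] at this
  set s := t ^ 2 ^ k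
  have hs1 : ¬ Rel z s 1 := Nat.find_min hexn (by omega)
  have hsT : ∀ c, φ c s = s := fun c => by rw [map_pow, ht]
  have hss : s * s = z := by
    have h2 := Nat.find_spec hexn
    rw [hk, pow_succ, pow_mul, pow_two] at h2
    rcases h2 with h2 | h2
    · exact absurd (P.involution C.ne (hsT a) h2) hs1
    · rw [h2, one_mul]
  have hsD : s ∉ D := fun h => hs1 (hR (u := ⟨s, h⟩) (v := 1) (Q.center_two hψF (Q.center_eq hψF ▸
    Q.mem_commutator hψF (fun c => Subtype.ext (hsT c)))))
  -- `s` cannot commute with an element of square `z`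
  have hno : ∀ q : D, ψ a q = q → q * q = z' → s * (q : W) ≠ q * s := by
    intro q hq hq2 hc
    have h1 : s * (q : W) * (s * q) = 1 := by
      rw [show s * (q : W) * (s * q) = s * ((q : W) * s) * q by group, ← hc,
        show s * (s * (q : W)) * q = (s * s) * ((q : W) * q) by group, hss,
        show (q : W) * q = z by rw [← hzz]; exact congrArg Subtype.val hq2, P.sq]
    have h2 : φ a (s * (q : W)) = s * q := by rw [map_mul, hsT, show φ a (q : W) = q from congrArg Subtype.val hq]
    apply hsD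
    have h3 : s * (q : W) ∈ D := by
      rcases P.involution C.ne h2 h1 with h | h
      · rw [h]; exact one_mem _
      · rw [h, one_mul]; exact hzD
    simpa using mul_mem h3 (inv_mem q.2)
  let c : D → D := fun q => ⟨s * q * s⁻¹, hDn.conj_mem _ q.2 s⟩
  have hcfix : ∀ q : D, ψ a q = q → ψ a (c q) = c q := fun q hq => Subtype.ext (by
    show φ a (s * (q : W) * s⁻¹) = s * q * s⁻¹
    rw [map_mul, map_mul, map_inv, hsT, show φ a (q : W) = q from congrArg Subtype.val hq])
  have hcb : ∀ q : D, ψ b (c q) = c (ψ b q) := fun q => Subtype.ext (by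
    show φ b (s * (q : W) * s⁻¹) = s * φ b (q : W) * s⁻¹
    rw [map_mul, map_mul, map_inv, hsT])
  have hcc : ∀ q : D, c (c q) = q := fun q => Subtype.ext (by
    show s * (s * (q : W) * s⁻¹) * s⁻¹ = q
    rw [show s * (s * (q : W) * s⁻¹) * s⁻¹ = (s * s) * q * (s * s)⁻¹ by group, hss,
      Subgroup.mem_center_iff.1 P.cen (q : W) |>.symm, mul_inv_cancel_right])
  have hcR : ∀ {u v : D}, Rel z' u v → Rel z' (c u) (c v) := by
    intro u v h
    refine hR' ?_
    show Rel z (s * (u : W) * s⁻¹) (s * (v : W) * s⁻¹)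
    exact P.rel_mul_right _ (P.rel_mul_left _ (hR h))
  have hcmul : ∀ u v : D, c (u * v) = c u * c v := fun u v => Subtype.ext (by
    show s * ((u : W) * v) * s⁻¹ = s * u * s⁻¹ * (s * v * s⁻¹)
    group)
  have hcx : Rel z' (c x) x := by
    rcases C.list a C.ne C.hx C.hy (c x) (hcfix x C.hx) with h | h | h | h
    · exfalso
      have := hcR h
      rw [hcc, show c 1 = 1 from Subtype.ext (by show s * 1 * s⁻¹ = 1; group)] at this
      exact C.nx this
    · exact h
    · exfalso
      have h2 : Rel z' (c y) (x * y) := by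
        rw [← C.move, ← hcb, C.move]
        exact Rel.trans Q (Rel.map Q b h) C.move'
      have := hcR h
      rw [hcc] at this
      have h3 := Rel.trans Q this h2
      rcases h3 with h3 | h3
      · exact C.ny (Or.inl (left_eq_mul.1 h3))
      · rw [mul_assoc] at h3
        refine C.ny (Or.inr ?_)
        have h4 := left_eq_mul.1 h3
        rw [one_mul, eq_inv_of_mul_eq_one_left h4, inv_eq_of_mul_eq_one_right Q.sq]
    · exfalso
      have h2 : Rel z' (c y) x := by
        rw [← C.move, ← hcb]
        refine Rel.trans Q (Rel.map Q b h) ?_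
        rw [map_mul, C.move]
        refine Rel.trans Q (Q.rel_mul_left _ C.move') (Or.inl ?_)
        calc y * (x * y) = y * (y * x * z') := by rw [C.anti]
          _ = y * y * x * z' := by group
          _ = x := by rw [C.sqy, ← Q.comm_z x, mul_assoc, Q.sq, mul_one]
      have := hcR h
      rw [hcc, hcmul] at this
      have h3 : Rel z' x (x * y * x) :=
        Rel.trans Q this (Rel.trans Q (Q.rel_mul_right _ h) (Q.rel_mul_left _ h2))
      rcases h3 with h3 | h3
      · rw [mul_assoc] at h3
        have h4 := left_eq_mul.1 h3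
        refine C.dxy (Or.inr ?_)
        rw [eq_inv_of_mul_eq_one_left h4]
        exact inv_eq_of_mul_eq_one_right (by rw [← mul_assoc, C.sqx, Q.sq])
      · rw [mul_assoc, mul_assoc] at h3
        have h4 : y * (x * z') = 1 := left_eq_mul.1 h3
        refine C.dxy (Or.inl ?_)
        rw [eq_inv_of_mul_eq_one_left h4]
        exact inv_eq_of_mul_eq_one_left (by rw [← mul_assoc, C.sqx, Q.sq])
  rcases hcx with h | h
  · exact hno x C.hx C.sqx (mul_inv_eq_iff_eq_mul.1 (congrArg Subtype.val h))
  · have hcy : c y = y * z' := by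
      rw [← C.move, ← hcb, h, map_mul, Q.fixed]
    refine hno (x * y) (by rw [map_mul, C.hx, C.hy]) C.sqxy (mul_inv_eq_iff_eq_mul.1 (congrArg Subtype.val
      (show c (x * y) = x * y from ?_)))
    rw [hcmul, h, hcy, mul_assoc x z', ← mul_assoc z' y, ← Q.comm_z y, mul_assoc y z', Q.sq, mul_one]

/-- The structure theorem. -/
theorem main (h : Hyp p φ) : Nat.card A = 9 ∧ Cfsg.IsExtraspecial 2 W ∧
    (Nat.card W = 2 ^ 5 ∨ Nat.card W = 2 ^ 7 ∨ Nat.card W = 2 ^ 9) ∧
    ∀ x : W, (∀ a, φ a x = x) ↔ x ∈ Subgroup.center W := by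
  obtain ⟨z, P⟩ := h.exists_pt
  have hF := P.full
  exact ⟨P.card_acting hF, P.extraspecial hF, P.card_group hF, fun x =>
    ⟨fun hx => P.center_eq hF ▸ P.mem_commutator hF hx, fun hx a => P.center_fixed hx a⟩⟩

end CfsgLib.FixedInvolution
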